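import Cfsg.Agent.H823.Core
import Cfsg.Agent.LargeExtra.TwoCentral
import Cfsg.Prelude.Def_Solvable
import Cfsg.Agent.Lib.Cores
set_option linter.all false

-- part: H823/PairExt
section
/-!
# The subgroup generated by two large extraspecial subgroups `Q`, `A = Q ^ g` with `z ^ g ∈ Q`

For `p : Pair Q z A a` : `V = ⟨z, a⟩`, `X = ⟨Q, A⟩`, `R = C_A(z) C_Q(a)`.

* `mem_V`, `mem_cV`: elements of `V`, `C_G(V)`;
* `cent_U`: `C_G(C_Q(a)) = V`;
* `R_normal`: `X` normalises `R`;
* `comm_CV`: `[X, C_G(V)] ≤ R`;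
* `X_inf_CV`: `X ∩ C_G(V) = R`.
-/

set_option autoImplicit false

namespace Cfsg.Agent.H823

open Cfsg Cfsg.Agent.Co2Type.Quad Cfsg.Agent.LargeExtra.Base Cfsg.Agent.LargeExtra.TwoCentral

variable {G : Type*} [Group G] {Q A : Subgroup G} {z a : G}

/-- the element `a` has square one -/
theorem sq_a (p : Pair Q z A a) : a * a = 1 := p.la.z_sq

theorem sq_z (p : Pair Q z A a) : z * z = 1 := p.lz.z_sq

/-- `V = {1, z, a, a z}` -/
theorem mem_V (p : Pair Q z A a) {x : G} :
    x ∈ Subgroup.closure ({z, a} : Set G) ↔ x = 1 ∨ x = z ∨ x = a ∨ x = a * z := by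
  have hza := p.comm_za
  have hz2 := sq_z p
  have ha2 := sq_a p
  constructor
  · intro hx
    induction hx using Subgroup.closure_induction with
    | mem y hy =>
      rcases hy with rfl | hy
      · right; left; rfl
      · right; right; left; exact hy
    | one => left; rfl
    | mul x y _ _ hx hy =>
      rcases hx with rfl | rfl | rfl | rfl
      · rw [one_mul]; exact hy
      · rcases hy with rfl | rfl | rfl | rfl
        · right; left; exact mul_one _
        · left; exact hz2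
        · right; right; right; exact hza.symm
        · right; right; left
          rw [hza, ← mul_assoc, hz2, one_mul]
      · rcases hy with rfl | rfl | rfl | rfl
        · right; right; left; exact mul_one _
        · right; right; right; rfl
        · left; exact ha2
        · right; left
          rw [← mul_assoc, ha2, one_mul]
      · rcases hy with rfl | rfl | rfl | rfl
        · right; right; right; exact mul_one _
        · right; right; left; rw [mul_assoc, hz2, mul_one]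
        · right; left; rw [mul_assoc, ← hza, ← mul_assoc, ha2, one_mul]
        · left
          calc a * z * (a * z) = a * (z * a) * z := by group
            _ = a * (a * z) * z := by rw [hza]
            _ = (a * a) * (z * z) := by group
            _ = 1 := by rw [ha2, hz2, one_mul]
    | inv x _ hx =>
      rcases hx with rfl | rfl | rfl | rfl
      · left; exact inv_one
      · right; left; exact inv_eq_of_mul_eq_one_left hz2
      · right; right; left; exact inv_eq_of_mul_eq_one_left ha2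
      · right; right; right
        rw [mul_inv_rev, inv_eq_of_mul_eq_one_left hz2, inv_eq_of_mul_eq_one_left ha2, hza]
  · have h1 : z ∈ Subgroup.closure ({z, a} : Set G) := Subgroup.subset_closure (by simp)
    have h2 : a ∈ Subgroup.closure ({z, a} : Set G) := Subgroup.subset_closure (by simp)
    rintro (rfl | rfl | rfl | rfl)
    · exact one_mem _
    · exact h1
    · exact h2
    · exact mul_mem h2 h1

/-- `C_G(V)` -/
theorem mem_cV {x : G} : x ∈ Subgroup.centralizer ((Subgroup.closure ({z, a} : Set G) : Subgroup G) : Set G) ↔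
    x * z = z * x ∧ x * a = a * x := by
  rw [Subgroup.centralizer_closure, Subgroup.mem_centralizer_iff]
  constructor
  · intro h
    exact ⟨(h z (by simp)).symm, (h a (by simp)).symm⟩
  · rintro ⟨h1, h2⟩ y (rfl | hy)
    · exact h1.symm
    · rw [Set.mem_singleton_iff] at hy; subst hy; exact h2.symm

/-- `C_G(C_Q(a)) = V`. -/
theorem cent_U (h : Large Q z) (haQ : a ∈ Q) (ha2 : a * a = 1) (ha1 : a ≠ 1) (haz : a ≠ z) {x : G}
    (hx : ∀ u ∈ Q, u * a = a * u → x * u = u * x) : x = 1 ∨ x = z ∨ x = a ∨ x = a * z := by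
  have hza : a * z = z * a := h.comm_z a haQ
  have hxz : x * z = z * x := hx z h.z_mem hza.symm
  have hxa : x * a = a * x := hx a haQ rfl
  obtain ⟨c, hc, hca⟩ := exists_not_comm h haQ ha1 haz
  -- `hca : c * a = a * c * z`
  have hcz : c * z = z * c := h.comm_z c hc
  set u₀ := c⁻¹ * (x * c * x⁻¹) with hu₀
  have hu₀Q : u₀ ∈ Q := mul_mem (inv_mem hc) (h.conj_mem x hxz c hc)
  have hxc : x * c * x⁻¹ = c * u₀ := by rw [hu₀]; group
  -- `u₀` commutes with `C_Q(a)`
  have h1 : ∀ r ∈ Q, r * a = a * r → r * u₀ = u₀ * r := by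
    intro r hr hra
    have hrx := hx r hr hra
    have hrx' : x * r * x⁻¹ = r := by rw [hrx]; group
    have h2 : x * (r * c) * x⁻¹ = r * (c * u₀) := by
      calc x * (r * c) * x⁻¹ = (x * r * x⁻¹) * (x * c * x⁻¹) := by group
        _ = r * (c * u₀) := by rw [hrx', hxc]
    rcases h.comm r hr c hc with h3 | h3
    · have h4 : x * (r * c) * x⁻¹ = c * u₀ * r := by
        calc x * (r * c) * x⁻¹ = (x * c * x⁻¹) * (x * r * x⁻¹) := by rw [h3]; group
          _ = c * u₀ * r := by rw [hrx', hxc]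
      have h5 : c * (r * u₀) = c * (u₀ * r) := by
        calc c * (r * u₀) = (c * r) * u₀ := by group
          _ = r * (c * u₀) := by rw [← h3]; group
          _ = c * (u₀ * r) := by rw [← h2, h4]; group
      exact mul_left_cancel h5
    · have hxz' : x * z * x⁻¹ = z := by rw [hxz]; group
      have h4 : x * (r * c) * x⁻¹ = c * u₀ * r * z := by
        calc x * (r * c) * x⁻¹ = (x * c * x⁻¹) * (x * r * x⁻¹) * (x * z * x⁻¹) := by rw [h3]; group
          _ = c * u₀ * r * z := by rw [hrx', hxc, hxz']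
      have hu₀z : u₀ * z = z * u₀ := h.comm_z _ hu₀Q
      have h5 : c * (r * u₀) * z = c * (u₀ * r) * z := by
        calc c * (r * u₀) * z = (c * r) * (u₀ * z) := by group
          _ = (c * r * z) * u₀ := by rw [hu₀z]; group
          _ = r * (c * u₀) := by rw [← h3]; group
          _ = c * (u₀ * r) * z := by rw [← h2, h4]; group
      exact mul_left_cancel (mul_right_cancel h5)
  have hcsq : (c * u₀) * (c * u₀) = c * c := by
    rw [← hxc]
    have hxcc : x * (c * c) = (c * c) * x := by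
      rcases h.sq c hc with h2 | h2
      · rw [h2]; group
      · rw [h2]; exact hxz
    calc x * c * x⁻¹ * (x * c * x⁻¹) = x * (c * c) * x⁻¹ := by group
      _ = c * c := by rw [hxcc]; group
  -- conclusion when `x` commutes with `c`
  have hfin : ∀ y : G, (∀ u ∈ Q, u * a = a * u → y * u = u * y) → y * c = c * y → y = 1 ∨ y = z := by
    intro y hy hyc
    apply eq_of_central h
    intro q hq
    rcases h.comm q hq a haQ with h2 | h2
    · exact hy q hq h2
    · have h3 : (c⁻¹ * q) * a = a * (c⁻¹ * q) := by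
        have h4 : c⁻¹ * a = a * c⁻¹ * z := by
          have h5 : c⁻¹ * (a * c * z) = a := by rw [← hca]; group
          calc c⁻¹ * a = c⁻¹ * (a * c * z) * z⁻¹ * c⁻¹ := by
                have : c⁻¹ * (a * c * z) * z⁻¹ * c⁻¹ = c⁻¹ * a := by group
                rw [this]
            _ = a * z⁻¹ * c⁻¹ := by rw [h5]
            _ = a * (z⁻¹ * c⁻¹) := by group
            _ = a * (c * z)⁻¹ := by rw [mul_inv_rev]
            _ = a * (z * c)⁻¹ := by rw [hcz]
            _ = a * c⁻¹ * z⁻¹ := by group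
            _ = a * c⁻¹ * z := by rw [h.z_inv]
        calc (c⁻¹ * q) * a = c⁻¹ * (a * q * z) := by rw [mul_assoc, h2]
          _ = (c⁻¹ * a) * (q * z) := by group
          _ = (a * c⁻¹ * z) * (q * z) := by rw [h4]
          _ = a * c⁻¹ * (z * q) * z := by group
          _ = a * c⁻¹ * (q * z) * z := by rw [h.comm_z q hq]
          _ = a * (c⁻¹ * q) * (z * z) := by group
          _ = a * (c⁻¹ * q) := by rw [h.z_sq, mul_one]
      have h4 := hy _ (mul_mem (inv_mem hc) hq) h3
      calc y * q = (y * c) * (c⁻¹ * q) := by group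
        _ = c * (y * (c⁻¹ * q)) := by rw [hyc]; group
        _ = c * ((c⁻¹ * q) * y) := by rw [h4]
        _ = q * y := by group
  have hcac : c * a * (c * a) = c * c * z := by
    calc c * a * (c * a) = c * (a * c) * a := by group
      _ = c * (a * c * z) * z⁻¹ * a := by group
      _ = c * (c * a) * z⁻¹ * a := by rw [hca]
      _ = c * c * (a * z) * a := by rw [h.z_inv]; group
      _ = c * c * (z * a) * a := by rw [hza]
      _ = c * c * z * (a * a) := by group
      _ = c * c * z := by rw [ha2, mul_one]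
  have hne : c * c * z ≠ c * c := by
    intro h2
    exact h.z_ne (mul_eq_left.1 h2)
  rcases eq_of_cent h haQ hu₀Q h1 with h2 | h2 | h2 | h2
  · -- `u₀ = 1`
    rw [h2, mul_one] at hxc
    have h3 : x * c = c * x := mul_inv_eq_iff_eq_mul.1 hxc
    rcases hfin x hx h3 with h4 | h4
    · exact Or.inl h4
    · exact Or.inr (Or.inl h4)
  · -- `u₀ = z`
    rw [h2] at hxc
    have h3 : x * c = c * z * x := mul_inv_eq_iff_eq_mul.1 hxc
    have h4 : ∀ u ∈ Q, u * a = a * u → (x * a) * u = u * (x * a) := by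
      intro u hu hua
      calc (x * a) * u = x * (u * a) := by rw [hua]; group
        _ = (x * u) * a := by group
        _ = u * (x * a) := by rw [hx u hu hua]; group
    have h5 : (x * a) * c = c * (x * a) := by
      calc (x * a) * c = x * (a * c * z) * z⁻¹ := by group
        _ = (x * c) * a * z⁻¹ := by rw [← hca]; group
        _ = c * z * x * (a * z) := by rw [h3, h.z_inv]; group
        _ = c * z * x * (z * a) := by rw [hza]
        _ = c * z * (x * z) * a := by group
        _ = c * z * (z * x) * a := by rw [hxz]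
        _ = c * (z * z) * (x * a) := by group
        _ = c * (x * a) := by rw [h.z_sq, mul_one]
    rcases hfin _ h4 h5 with h6 | h6
    · right; right; left
      rw [eq_inv_of_mul_eq_one_left h6]; exact inv_eq_of_mul_eq_one_left ha2
    · right; right; right
      have : x = z * a⁻¹ := by rw [← h6]; group
      rw [this, inv_eq_of_mul_eq_one_left ha2, hza]
  · exfalso
    rw [h2, hcac] at hcsq
    exact hne hcsq
  · exfalso
    apply hne
    rw [← hcac, ← hcsq, h2]
    calc c * a * (c * a) = c * a * (c * a) * (z * z) := by rw [h.z_sq, mul_one]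
      _ = c * a * (c * (a * z)) * z := by group
      _ = c * a * (c * (z * a)) * z := by rw [hza]
      _ = c * a * ((c * z) * a) * z := by group
      _ = c * a * ((z * c) * a) * z := by rw [hcz]
      _ = c * (a * z) * (c * (a * z)) := by group

/-- `[q, v] ∈ V` type statement: an element of `Q` fixes `z` and moves `a` to `a` or `a z`. -/
theorem conj_a (h : Large Q z) (haQ : a ∈ Q) {q : G} (hq : q ∈ Q) :
    q * a * q⁻¹ = a ∨ q * a * q⁻¹ = a * z := by
  rcases h.comm q hq a haQ with h1 | h1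
  · left; rw [h1]; group
  · right
    rw [h1]
    have h2 : q * z = z * q := h.comm_z q hq
    calc a * q * z * q⁻¹ = a * (q * z) * q⁻¹ := by group
      _ = a * (z * q) * q⁻¹ := by rw [h2]
      _ = a * z := by group

theorem inv_comm {x y : G} (h : x * y = y * x) : x⁻¹ * y = y * x⁻¹ := by
  calc x⁻¹ * y = x⁻¹ * (y * x) * x⁻¹ := by group
    _ = x⁻¹ * (x * y) * x⁻¹ := by rw [h]
    _ = y * x⁻¹ := by group

/-- `[C_G(V), Q] ≤ C_Q(a)` -/
theorem comm_cV_Q (h : Large Q z) (haQ : a ∈ Q) {c q : G} (hcz : c * z = z * c) (hca : c * a = a * c)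
    (hq : q ∈ Q) : c * q * c⁻¹ * q⁻¹ ∈ Q ∧ (c * q * c⁻¹ * q⁻¹) * a = a * (c * q * c⁻¹ * q⁻¹) := by
  refine ⟨mul_mem (h.conj_mem c hcz q hq) (inv_mem hq), ?_⟩
  have hza : a * z = z * a := h.comm_z a haQ
  have hca' := inv_comm hca
  rcases h.comm q hq a haQ with h1 | h1
  · have h1' := inv_comm h1
    calc (c * q * c⁻¹ * q⁻¹) * a = c * q * c⁻¹ * (q⁻¹ * a) := by group
      _ = c * q * (c⁻¹ * a) * q⁻¹ := by rw [h1']; group
      _ = c * (q * a) * c⁻¹ * q⁻¹ := by rw [hca']; group
      _ = (c * a) * q * c⁻¹ * q⁻¹ := by rw [h1]; group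
      _ = a * (c * q * c⁻¹ * q⁻¹) := by rw [hca]; group
  · have hqz : q * z = z * q := h.comm_z q hq
    have h1' : q⁻¹ * a = a * z * q⁻¹ := by
      have h2 : q * (a * z) = a * q := by
        calc q * (a * z) = (q * a) * z := by group
          _ = a * q * (z * z) := by rw [h1]; group
          _ = a * q := by rw [h.z_sq, mul_one]
      calc q⁻¹ * a = q⁻¹ * (a * q) * q⁻¹ := by group
        _ = q⁻¹ * (q * (a * z)) * q⁻¹ := by rw [h2]
        _ = a * z * q⁻¹ := by group
    have hcz' := inv_comm hcz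
    calc (c * q * c⁻¹ * q⁻¹) * a = c * q * c⁻¹ * (q⁻¹ * a) := by group
      _ = c * q * (c⁻¹ * a) * z * q⁻¹ := by rw [h1']; group
      _ = c * (q * a) * (c⁻¹ * z) * q⁻¹ := by rw [hca']; group
      _ = c * (a * q * z) * (z * c⁻¹) * q⁻¹ := by rw [h1, hcz']
      _ = c * a * q * (z * z) * c⁻¹ * q⁻¹ := by group
      _ = (c * a) * q * c⁻¹ * q⁻¹ := by rw [h.z_sq, mul_one]
      _ = a * (c * q * c⁻¹ * q⁻¹) := by rw [hca]; group

end Cfsg.Agent.H823
end

-- part: H823/PairX
section
/-!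
# `X = ⟨Q, A⟩` for a pair of large extraspecial subgroups

For `p : Pair Q z A a`, `R = RR Q A z a = C_A(z) C_Q(a)`:

* `R_conj_X`: `X` normalises `R`;
* `comm_X_cV`: `[X, C_G(V)] ≤ R`;
* `X_inf_cV`: `X ∩ C_G(V) = R`;
* `quot_equiv`: `X / R ≅ S₃`;
* `R_eq_pCore`: `R = O₂(X)`;
* `normalizer_V`: `N_G(V) = X C_G(V)`.
-/

set_option autoImplicit false

namespace Cfsg.Agent.H823

open Cfsg Cfsg.Agent.Co2Type.Quad Cfsg.Agent.LargeExtra.Base Cfsg.Agent.LargeExtra.TwoCentral

/-- `R = C_A(z) C_Q(a)` -/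
def RR {G : Type*} [Group G] (Q A : Subgroup G) (z a : G) : Subgroup G :=
  (A ⊓ Subgroup.centralizer ({z} : Set G)) ⊔ (Q ⊓ Subgroup.centralizer ({a} : Set G))

variable {G : Type*} [Group G] {Q A : Subgroup G} {z a : G}

theorem RR_symm : RR Q A z a = RR A Q a z := sup_comm _ _

theorem mem_RR_of_Q {x : G} (hx : x ∈ Q) (hxa : x * a = a * x) : x ∈ RR Q A z a :=
  Subgroup.mem_sup_right ⟨hx, Subgroup.mem_centralizer_singleton_iff.2 hxa⟩

theorem mem_RR_of_A {x : G} (hx : x ∈ A) (hxz : x * z = z * x) : x ∈ RR Q A z a :=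
  Subgroup.mem_sup_left ⟨hx, Subgroup.mem_centralizer_singleton_iff.2 hxz⟩

/-- elements of `R` centralise `V` -/
theorem RR_le_cV (p : Pair Q z A a) {x : G} (hx : x ∈ RR Q A z a) : x * z = z * x ∧ x * a = a * x := by
  have h1 : RR Q A z a ≤ Subgroup.centralizer ({z, a} : Set G) := by
    apply sup_le
    · rintro y ⟨hy, hyz⟩
      have hyz' := Subgroup.mem_centralizer_singleton_iff.1 hyz
      rw [Subgroup.mem_centralizer_iff]
      rintro v (rfl | hv)
      · exact hyz'.symm
      · rw [Set.mem_singleton_iff] at hv; subst hv; exact (p.la.comm_z y hy).symm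
    · rintro y ⟨hy, hya⟩
      have hya' := Subgroup.mem_centralizer_singleton_iff.1 hya
      rw [Subgroup.mem_centralizer_iff]
      rintro v (rfl | hv)
      · exact (p.lz.comm_z y hy).symm
      · rw [Set.mem_singleton_iff] at hv; subst hv; exact hya'.symm
  have h2 := Subgroup.mem_centralizer_iff.1 (h1 hx)
  exact ⟨(h2 z (by simp)).symm, (h2 a (by simp)).symm⟩

/-- `[C_G(V), Q] ≤ R` -/
theorem comm_cV_Q_mem (p : Pair Q z A a) {c q : G} (hcz : c * z = z * c) (hca : c * a = a * c)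
    (hq : q ∈ Q) : c * q * c⁻¹ * q⁻¹ ∈ RR Q A z a := by
  obtain ⟨h1, h2⟩ := comm_cV_Q p.lz p.a_mem hcz hca hq
  exact mem_RR_of_Q h1 h2

/-- `Q` normalises `R` -/
theorem R_conj_Q (p : Pair Q z A a) {q r : G} (hq : q ∈ Q) (hr : r ∈ RR Q A z a) :
    q * r * q⁻¹ ∈ RR Q A z a := by
  obtain ⟨h1, h2⟩ := RR_le_cV p hr
  have h3 := comm_cV_Q_mem p h1 h2 hq
  have h4 : q * r * q⁻¹ = (r * q * r⁻¹ * q⁻¹)⁻¹ * r := by group
  rw [h4]
  exact mul_mem (inv_mem h3) hr

theorem Q_le_norm (p : Pair Q z A a) : Q ≤ Subgroup.normalizer (RR Q A z a : Set G) := by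
  intro q hq
  rw [Subgroup.mem_normalizer_iff]
  intro x
  refine ⟨fun hx => R_conj_Q p hq hx, fun hx => ?_⟩
  have h1 := R_conj_Q p (inv_mem hq) hx
  have h2 : q⁻¹ * (q * x * q⁻¹) * q⁻¹⁻¹ = x := by group
  rwa [h2] at h1

theorem A_le_norm (p : Pair Q z A a) : A ≤ Subgroup.normalizer (RR Q A z a : Set G) := by
  rw [RR_symm]; exact Q_le_norm p.symm

theorem X_le_norm (p : Pair Q z A a) : Q ⊔ A ≤ Subgroup.normalizer (RR Q A z a : Set G) :=
  sup_le (Q_le_norm p) (A_le_norm p)

/-- `X` normalises `R` -/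
theorem R_conj_X (p : Pair Q z A a) {x r : G} (hx : x ∈ Q ⊔ A) (hr : r ∈ RR Q A z a) :
    x * r * x⁻¹ ∈ RR Q A z a :=
  (Subgroup.mem_normalizer_iff.1 (X_le_norm p hx) r).1 hr

theorem R_le_X (Q A : Subgroup G) (z a : G) : RR Q A z a ≤ Q ⊔ A :=
  sup_le (inf_le_left.trans le_sup_right) (inf_le_left.trans le_sup_left)

theorem comm_cV_A_mem (p : Pair Q z A a) {c q : G} (hcz : c * z = z * c) (hca : c * a = a * c)
    (hq : q ∈ A) : c * q * c⁻¹ * q⁻¹ ∈ RR Q A z a := by
  rw [RR_symm]; exact comm_cV_Q_mem p.symm hca hcz hq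

/-- `[C_G(V), X] ≤ R` -/
theorem comm_cV_X (p : Pair Q z A a) {c x : G} (hcz : c * z = z * c) (hca : c * a = a * c)
    (hx : x ∈ Q ⊔ A) : c * x * c⁻¹ * x⁻¹ ∈ RR Q A z a := by
  rw [Subgroup.sup_eq_closure] at hx
  induction hx using Subgroup.closure_induction with
  | mem y hy =>
    rcases hy with hy | hy
    · exact comm_cV_Q_mem p hcz hca hy
    · exact comm_cV_A_mem p hcz hca hy
  | one =>
    have : c * 1 * c⁻¹ * (1 : G)⁻¹ = 1 := by group
    rw [this]; exact one_mem _
  | mul x y hx' hy' hx hy =>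
    rw [← Subgroup.sup_eq_closure] at hx'
    have h1 := R_conj_X p hx' hy
    have : c * (x * y) * c⁻¹ * (x * y)⁻¹ = (c * x * c⁻¹ * x⁻¹) * (x * (c * y * c⁻¹ * y⁻¹) * x⁻¹) := by group
    rw [this]; exact mul_mem hx h1
  | inv x hx' hx =>
    rw [← Subgroup.sup_eq_closure] at hx'
    have h1 := R_conj_X p (inv_mem hx') (inv_mem hx)
    have : c * x⁻¹ * c⁻¹ * x⁻¹⁻¹ = x⁻¹ * (c * x * c⁻¹ * x⁻¹)⁻¹ * x⁻¹⁻¹ := by group
    rw [this]; exact h1

/-- representatives of `Q / C_Q(a)` and `A / C_A(z)` -/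
theorem exists_q0 (p : Pair Q z A a) : ∃ q ∈ Q, q * a = a * q * z := by
  obtain ⟨q, h1, h2⟩ := exists_not_comm p.lz p.a_mem p.la.z_ne p.ne
  exact ⟨q, h1, h2⟩

/-- `q₀⁻¹ q ∈ R` for `q ∈ Q` not commuting with `a`. -/
theorem Q_cases (p : Pair Q z A a) {q₀ q : G} (hq₀ : q₀ ∈ Q) (h₀ : q₀ * a = a * q₀ * z) (hq : q ∈ Q) :
    q ∈ RR Q A z a ∨ q₀⁻¹ * q ∈ RR Q A z a := by
  rcases p.lz.comm q hq a p.a_mem with h1 | h1
  · left; exact mem_RR_of_Q hq h1
  · right
    refine mem_RR_of_Q (mul_mem (inv_mem hq₀) hq) ?_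
    have h2 : q₀ * (a * z) = a * q₀ := by
      calc q₀ * (a * z) = (q₀ * a) * z := by group
        _ = a * q₀ * (z * z) := by rw [h₀]; group
        _ = a * q₀ := by rw [p.lz.z_sq, mul_one]
    have h3 : q₀⁻¹ * a = a * z * q₀⁻¹ := by
      calc q₀⁻¹ * a = q₀⁻¹ * (a * q₀) * q₀⁻¹ := by group
        _ = q₀⁻¹ * (q₀ * (a * z)) * q₀⁻¹ := by rw [h2]
        _ = a * z * q₀⁻¹ := by group
    have hqz := p.lz.comm_z q hq
    have hqz₀ := inv_comm (p.lz.comm_z q₀ hq₀)
    calc q₀⁻¹ * q * a = q₀⁻¹ * (a * q * z) := by rw [mul_assoc, h1]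
      _ = (q₀⁻¹ * a) * (q * z) := by group
      _ = a * (z * q₀⁻¹) * (q * z) := by rw [h3]; group
      _ = a * (q₀⁻¹ * z) * (z * q) := by rw [hqz₀, hqz]
      _ = a * q₀⁻¹ * (z * z) * q := by group
      _ = a * (q₀⁻¹ * q) := by rw [p.lz.z_sq]; group

/-- the six coset representatives -/
def reps (q b : G) : Set G := {1, q, b, q * b, b * q, q * b * q}

/-- `q₀` conjugates `a` to `a z`. -/
theorem conj_q_a (p : Pair Q z A a) {q : G} (hq : q ∈ Q) (h1 : q * a = a * q * z) :
    q * a * q⁻¹ = a * z := by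
  rw [h1]
  have h2 : q * z = z * q := p.lz.comm_z q hq
  calc a * q * z * q⁻¹ = a * (q * z) * q⁻¹ := by group
    _ = a * (z * q) * q⁻¹ := by rw [h2]
    _ = a * z := by group

theorem conj_q_z (p : Pair Q z A a) {q : G} (hq : q ∈ Q) : q * z * q⁻¹ = z := by
  rw [p.lz.comm_z q hq]; group

theorem conj_q_az (p : Pair Q z A a) {q : G} (hq : q ∈ Q) (h1 : q * a = a * q * z) :
    q * (a * z) * q⁻¹ = a := by
  calc q * (a * z) * q⁻¹ = (q * a * q⁻¹) * (q * z * q⁻¹) := by group
    _ = a * (z * z) := by rw [conj_q_a p hq h1, conj_q_z p hq]; group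
    _ = a := by rw [p.lz.z_sq, mul_one]

theorem conj_b_z (p : Pair Q z A a) {b : G} (hb : b ∈ A) (h1 : b * z = z * b * a) :
    b * z * b⁻¹ = a * z := by
  rw [conj_q_a p.symm hb h1, p.comm_za]

theorem conj_b_a (p : Pair Q z A a) {b : G} (hb : b ∈ A) : b * a * b⁻¹ = a := conj_q_z p.symm hb

theorem conj_b_az (p : Pair Q z A a) {b : G} (hb : b ∈ A) (h1 : b * z = z * b * a) :
    b * (a * z) * b⁻¹ = z := by
  rw [p.comm_za]; exact conj_q_az p.symm hb h1

/-- `q₀ b₀` maps `z` to `a`. -/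
theorem conj_qb (p : Pair Q z A a) {q b : G} (hq : q ∈ Q) (h1 : q * a = a * q * z) (hb : b ∈ A)
    (h2 : b * z = z * b * a) : (q * b) * z * (q * b)⁻¹ = a := by
  calc (q * b) * z * (q * b)⁻¹ = q * (b * z * b⁻¹) * q⁻¹ := by group
    _ = a := by rw [conj_b_z p hb h2, conj_q_az p hq h1]

/-- an element conjugating `z` to `a` conjugates `Q` to `A` -/
theorem map_Q (p : Pair Q z A a) {h : G} (hh : h * z * h⁻¹ = a) {x : G} (hx : x ∈ Q) :
    h * x * h⁻¹ ∈ A := by
  obtain ⟨g, h1, -, h3, -⟩ := p.isConj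
  have h4 := map_eq_of_conj p.lz (hh.trans h1.symm)
  rw [h3, ← h4]
  exact ⟨x, hx, rfl⟩

/-- the braid relation modulo `R` -/
theorem braid (p : Pair Q z A a) {q b : G} (hq : q ∈ Q) (h1 : q * a = a * q * z) (hb : b ∈ A)
    (h2 : b * z = z * b * a) : b⁻¹ * ((q * b) * q * (q * b)⁻¹) ∈ RR Q A z a := by
  have h3 := conj_qb p hq h1 hb h2
  have h4 := map_Q p h3 hq
  rw [RR_symm]
  rcases Q_cases p.symm hb h2 h4 with h5 | h5
  · exfalso
    have h6 := (RR_le_cV p.symm h5).2
    -- `q b q b⁻¹ q⁻¹` commutes with `z`, so `q` commutes with `(q b)⁻¹ z (q b) = a z`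
    have e1 : (q * b)⁻¹ * z * (q * b) = a * z := by
      have e2 : q⁻¹ * z * q = z := by
        have := conj_q_z p (inv_mem hq)
        rwa [inv_inv] at this
      have e3 : b⁻¹ * z * b = a * z := by
        have := conj_b_az p hb h2
        calc b⁻¹ * z * b = b⁻¹ * (b * (a * z) * b⁻¹) * b := by rw [this]
          _ = a * z := by group
      calc (q * b)⁻¹ * z * (q * b) = b⁻¹ * (q⁻¹ * z * q) * b := by group
        _ = a * z := by rw [e2, e3]
    have e2 : q * (a * z) * q⁻¹ = a * z := by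
      rw [← e1]
      calc q * ((q * b)⁻¹ * z * (q * b)) * q⁻¹
          = (q * b)⁻¹ * (((q * b) * q * (q * b)⁻¹) * z) * ((q * b) * q * (q * b)⁻¹)⁻¹ * (q * b) := by group
        _ = (q * b)⁻¹ * (z * ((q * b) * q * (q * b)⁻¹)) * ((q * b) * q * (q * b)⁻¹)⁻¹ * (q * b) := by rw [h6]
        _ = (q * b)⁻¹ * z * (q * b) := by group
    rw [conj_q_az p hq h1] at e2
    exact p.lz.z_ne (mul_eq_left.1 e2.symm)
  · exact h5

/-- `Q` normalises `V` -/
theorem Q_le_normV (p : Pair Q z A a) :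
    Q ≤ Subgroup.normalizer ((Subgroup.closure ({z, a} : Set G) : Subgroup G) : Set G) := by
  have key : ∀ q ∈ Q, ∀ v ∈ Subgroup.closure ({z, a} : Set G), q * v * q⁻¹ ∈ Subgroup.closure ({z, a} : Set G) := by
    intro q hq v hv
    have hvQ : v ∈ Q := by
      rcases (mem_V p).1 hv with rfl | rfl | rfl | rfl
      · exact one_mem _
      · exact p.lz.z_mem
      · exact p.a_mem
      · exact mul_mem p.a_mem p.lz.z_mem
    have hzV : z ∈ Subgroup.closure ({z, a} : Set G) := Subgroup.subset_closure (by simp)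
    rcases p.lz.comm q hq v hvQ with h1 | h1
    · rw [h1, mul_inv_cancel_right]; exact hv
    · rw [h1]
      have h2 : q * z = z * q := p.lz.comm_z q hq
      have h3 : v * q * z * q⁻¹ = v * z := by
        calc v * q * z * q⁻¹ = v * (q * z) * q⁻¹ := by group
          _ = v * (z * q) * q⁻¹ := by rw [h2]
          _ = v * z := by group
      rw [h3]; exact mul_mem hv hzV
  intro q hq
  rw [Subgroup.mem_normalizer_iff]
  intro x
  refine ⟨fun hx => key q hq x hx, fun hx => ?_⟩
  have h1 := key q⁻¹ (inv_mem hq) _ hx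
  have h2 : q⁻¹ * (q * x * q⁻¹) * q⁻¹⁻¹ = x := by group
  rwa [h2] at h1

theorem V_symm : Subgroup.closure ({z, a} : Set G) = Subgroup.closure ({a, z} : Set G) := by
  rw [Set.pair_comm]

theorem A_le_normV (p : Pair Q z A a) :
    A ≤ Subgroup.normalizer ((Subgroup.closure ({z, a} : Set G) : Subgroup G) : Set G) := by
  rw [V_symm]; exact Q_le_normV p.symm

theorem X_le_normV (p : Pair Q z A a) :
    Q ⊔ A ≤ Subgroup.normalizer ((Subgroup.closure ({z, a} : Set G) : Subgroup G) : Set G) :=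
  sup_le (Q_le_normV p) (A_le_normV p)

/-- the three involutions of `V` are permuted by `N_G(V)` -/
theorem conj_mem_T (p : Pair Q z A a) {n v : G}
    (hn : n ∈ Subgroup.normalizer ((Subgroup.closure ({z, a} : Set G) : Subgroup G) : Set G))
    (hv : v = z ∨ v = a ∨ v = a * z) : n * v * n⁻¹ = z ∨ n * v * n⁻¹ = a ∨ n * v * n⁻¹ = a * z := by
  have h1 : v ∈ Subgroup.closure ({z, a} : Set G) := (mem_V p).2 (Or.inr hv)
  have h2 := (Subgroup.mem_normalizer_iff.1 hn v).1 h1
  have hv1 : v ≠ 1 := by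
    rcases hv with rfl | rfl | rfl
    · exact p.lz.z_ne
    · exact p.la.z_ne
    · intro h
      apply p.ne
      rw [eq_inv_of_mul_eq_one_left h, p.lz.z_inv]
  rcases (mem_V p).1 h2 with h3 | h3
  · exfalso; apply hv1
    calc v = n⁻¹ * (n * v * n⁻¹) * n := by group
      _ = 1 := by rw [h3]; group
  · exact h3

/-- every element of `X` is congruent to one of six elements modulo `R` -/
theorem X_cases (p : Pair Q z A a) {q b : G} (hq : q ∈ Q) (h1 : q * a = a * q * z) (hb : b ∈ A)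
    (h2 : b * z = z * b * a) {x : G} (hx : x ∈ Q ⊔ A) : ∃ w ∈ reps q b, w⁻¹ * x ∈ RR Q A z a := by
  classical
  set X : Subgroup G := Q ⊔ A with hX
  set R := RR Q A z a with hR
  have hRX : R ≤ X := R_le_X Q A z a
  have hQX : Q ≤ X := le_sup_left
  have hAX : A ≤ X := le_sup_right
  have hnorm : (R.subgroupOf X).Normal := by
    refine ⟨fun r hr x => ?_⟩
    rw [Subgroup.mem_subgroupOf] at hr ⊢
    exact R_conj_X p x.2 hr
  set π := QuotientGroup.mk' (R.subgroupOf X) with hπ
  have hπ1 : ∀ x : X, (x : G) ∈ R → π x = 1 := by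
    intro x hx
    rw [hπ, QuotientGroup.mk'_apply, QuotientGroup.eq_one_iff]
    exact Subgroup.mem_subgroupOf.2 hx
  have hπ1' : ∀ x : X, π x = 1 → (x : G) ∈ R := by
    intro x hx
    rw [hπ, QuotientGroup.mk'_apply, QuotientGroup.eq_one_iff] at hx
    exact Subgroup.mem_subgroupOf.1 hx
  set u := π ⟨q, hQX hq⟩ with hu
  set v := π ⟨b, hAX hb⟩ with hv
  have huu : u * u = 1 := by
    rw [hu, ← map_mul]
    apply hπ1
    show q * q ∈ R
    rcases p.lz.sq q hq with h3 | h3
    · rw [h3]; exact one_mem _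
    · rw [h3]; exact mem_RR_of_Q p.lz.z_mem p.comm_za.symm
  have hvv : v * v = 1 := by
    rw [hv, ← map_mul]
    apply hπ1
    show b * b ∈ R
    rcases p.la.sq b hb with h3 | h3
    · rw [h3]; exact one_mem _
    · rw [h3]; exact mem_RR_of_Q p.a_mem rfl
  have hui : u⁻¹ = u := inv_eq_of_mul_eq_one_left huu
  have hvi : v⁻¹ = v := inv_eq_of_mul_eq_one_left hvv
  have hbr : v * u * v = u * v * u := by
    have h3 : π (⟨b, hAX hb⟩⁻¹ * ((⟨q, hQX hq⟩ * ⟨b, hAX hb⟩) * ⟨q, hQX hq⟩ * (⟨q, hQX hq⟩ * ⟨b, hAX hb⟩)⁻¹)) = 1 :=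
      hπ1 _ (braid p hq h1 hb h2)
    simp only [map_mul, map_inv] at h3
    rw [← hu, ← hv] at h3
    -- v⁻¹ * ((u * v) * u * (u*v)⁻¹) = 1
    have h4 : u * v * u * (u * v)⁻¹ = v := by
      rw [eq_comm]; exact inv_mul_eq_one.1 h3
    have h5 : u * v * u = v * (u * v) := mul_inv_eq_iff_eq_mul.1 h4
    rw [h5]; group
  -- the six elements are closed under left multiplication
  have hSu : ∀ y ∈ ({1, u, v, u * v, v * u, u * v * u} : Set (X ⧸ R.subgroupOf X)),
      u * y ∈ ({1, u, v, u * v, v * u, u * v * u} : Set (X ⧸ R.subgroupOf X)) := by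
    intro y hy
    simp only [Set.mem_insert_iff, Set.mem_singleton_iff] at hy ⊢
    rcases hy with rfl | rfl | rfl | rfl | rfl | rfl
    · right; left; exact mul_one _
    · left; exact huu
    · right; right; right; left; rfl
    · right; right; left; rw [← mul_assoc, huu, one_mul]
    · right; right; right; right; right; rw [← mul_assoc]
    · right; right; right; right; left; rw [← mul_assoc, ← mul_assoc, huu, one_mul]
  have hSv : ∀ y ∈ ({1, u, v, u * v, v * u, u * v * u} : Set (X ⧸ R.subgroupOf X)),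
      v * y ∈ ({1, u, v, u * v, v * u, u * v * u} : Set (X ⧸ R.subgroupOf X)) := by
    intro y hy
    simp only [Set.mem_insert_iff, Set.mem_singleton_iff] at hy ⊢
    rcases hy with rfl | rfl | rfl | rfl | rfl | rfl
    · right; right; left; exact mul_one _
    · right; right; right; right; left; rfl
    · left; exact hvv
    · right; right; right; right; right; rw [← mul_assoc, hbr]
    · right; left; rw [← mul_assoc, hvv, one_mul]
    · right; right; right; left
      rw [← hbr, ← mul_assoc, ← mul_assoc, hvv, one_mul]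
  have hmem : ∀ y : X, (y : G) ∈ Q ∨ (y : G) ∈ A → π y = 1 ∨ π y = u ∨ π y = v := by
    rintro y (hy | hy)
    · rcases Q_cases p hq h1 hy with h3 | h3
      · left; exact hπ1 _ h3
      · right; left
        have h4 : π (⟨q, hQX hq⟩⁻¹ * y) = 1 := hπ1 _ h3
        rw [map_mul, map_inv] at h4
        exact (inv_mul_eq_one.1 h4).symm
    · have hb' := Q_cases p.symm hb h2 hy
      rw [← RR_symm] at hb'
      rcases hb' with h3 | h3
      · left; exact hπ1 _ h3
      · right; right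
        have h4 : π (⟨b, hAX hb⟩⁻¹ * y) = 1 := hπ1 _ h3
        rw [map_mul, map_inv] at h4
        exact (inv_mul_eq_one.1 h4).symm
  have hS : ∀ (y : G) (hy : y ∈ X), π ⟨y, hy⟩ ∈ ({1, u, v, u * v, v * u, u * v * u} : Set (X ⧸ R.subgroupOf X)) := by
    intro y hy
    have hy' : y ∈ Subgroup.closure ((Q : Set G) ∪ A) := by rw [← Subgroup.sup_eq_closure]; exact hy
    have hXc : ∀ w, w ∈ Subgroup.closure ((Q : Set G) ∪ A) → w ∈ X := by
      intro w hw; rw [hX, Subgroup.sup_eq_closure]; exact hw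
    have key : ∀ hy : y ∈ X, π ⟨y, hy⟩ ∈ ({1, u, v, u * v, v * u, u * v * u} : Set (X ⧸ R.subgroupOf X)) := by
      clear hy
      induction hy' using Subgroup.closure_induction_left with
      | one => intro _; left; exact map_one π
      | mul_left x hx y hy ih =>
        intro hxy
        have hxX : x ∈ X := hx.elim (fun h => hQX h) (fun h => hAX h)
        have e : π ⟨x * y, hxy⟩ = π ⟨x, hxX⟩ * π ⟨y, hXc y hy⟩ := by rw [← map_mul]; rfl
        rw [e]
        have h3 := ih (hXc y hy)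
        rcases hmem ⟨x, hxX⟩ hx with h4 | h4 | h4
        · rw [h4, one_mul]; exact h3
        · rw [h4]; exact hSu _ h3
        · rw [h4]; exact hSv _ h3
      | inv_mul_cancel x hx y hy ih =>
        intro hxy
        have hxX : x ∈ X := hx.elim (fun h => hQX h) (fun h => hAX h)
        have e : π ⟨x⁻¹ * y, hxy⟩ = π ⟨x⁻¹, inv_mem hxX⟩ * π ⟨y, hXc y hy⟩ := by rw [← map_mul]; rfl
        rw [e]
        have h3 := ih (hXc y hy)
        rcases hmem ⟨x⁻¹, inv_mem hxX⟩ (hx.imp (fun h => inv_mem h) (fun h => inv_mem h)) with h4 | h4 | h4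
        · rw [h4, one_mul]; exact h3
        · rw [h4]; exact hSu _ h3
        · rw [h4]; exact hSv _ h3
    exact key hy
  -- back to `G`
  have hback : ∀ w : X, π ⟨x, hx⟩ = π w → (w : G)⁻¹ * x ∈ R := by
    intro w hw
    have h3 : π (w⁻¹ * ⟨x, hx⟩) = 1 := by rw [map_mul, map_inv, hw, inv_mul_cancel]
    exact hπ1' _ h3
  have h3 := hS x hx
  simp only [Set.mem_insert_iff, Set.mem_singleton_iff] at h3
  rcases h3 with h3 | h3 | h3 | h3 | h3 | h3
  · exact ⟨1, by simp [reps], hback 1 (by rw [h3, map_one])⟩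
  · exact ⟨q, by simp [reps], hback ⟨q, hQX hq⟩ h3⟩
  · exact ⟨b, by simp [reps], hback ⟨b, hAX hb⟩ h3⟩
  · exact ⟨q * b, by simp [reps], hback (⟨q, hQX hq⟩ * ⟨b, hAX hb⟩) (by rw [h3, map_mul])⟩
  · exact ⟨b * q, by simp [reps], hback (⟨b, hAX hb⟩ * ⟨q, hQX hq⟩) (by rw [h3, map_mul])⟩
  · exact ⟨q * b * q, by simp [reps], hback (⟨q, hQX hq⟩ * ⟨b, hAX hb⟩ * ⟨q, hQX hq⟩)
      (by rw [h3, map_mul, map_mul])⟩

/-- `X ∩ C_G(V) ≤ R` -/
theorem mem_R_of_mem_X (p : Pair Q z A a) {x : G} (hx : x ∈ Q ⊔ A) (hxz : x * z = z * x)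
    (hxa : x * a = a * x) : x ∈ RR Q A z a := by
  obtain ⟨q, hq, h1⟩ := exists_q0 p
  obtain ⟨b, hb, h2⟩ := exists_q0 p.symm
  obtain ⟨w, hw, hwx⟩ := X_cases p hq h1 hb h2 hx
  obtain ⟨h3, h4⟩ := RR_le_cV p hwx
  -- `w` commutes with `z`, `a`
  have hwz : w * z * w⁻¹ = z := by
    have e : w = x * (w⁻¹ * x)⁻¹ := by group
    have h3' := inv_comm h3
    calc w * z * w⁻¹ = (x * (w⁻¹ * x)⁻¹) * z * (x * (w⁻¹ * x)⁻¹)⁻¹ := by rw [← e]
      _ = x * ((w⁻¹ * x)⁻¹ * z) * (w⁻¹ * x) * x⁻¹ := by group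
      _ = (x * z) * x⁻¹ := by rw [h3']; group
      _ = z := by rw [hxz]; group
  have hwa : w * a * w⁻¹ = a := by
    have e : w = x * (w⁻¹ * x)⁻¹ := by group
    have h4' := inv_comm h4
    calc w * a * w⁻¹ = (x * (w⁻¹ * x)⁻¹) * a * (x * (w⁻¹ * x)⁻¹)⁻¹ := by rw [← e]
      _ = x * ((w⁻¹ * x)⁻¹ * a) * (w⁻¹ * x) * x⁻¹ := by group
      _ = (x * a) * x⁻¹ := by rw [h4']; group
      _ = a := by rw [hxa]; group
  have hne1 : a * z ≠ a := fun h => p.lz.z_ne (mul_eq_left.1 h)
  have hne2 : a * z ≠ z := fun h => p.la.z_ne (mul_eq_right.1 h)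
  simp only [reps, Set.mem_insert_iff, Set.mem_singleton_iff] at hw
  rcases hw with rfl | rfl | rfl | rfl | rfl | rfl
  · rwa [inv_one, one_mul] at hwx
  · exact absurd (conj_q_a p hq h1 ▸ hwa) hne1
  · exact absurd (conj_b_z p hb h2 ▸ hwz) hne2
  · exact absurd ((conj_qb p hq h1 hb h2).symm.trans hwz) p.ne
  · exfalso
    apply hne2
    rw [← conj_b_z p hb h2]
    calc b * z * b⁻¹ = b * (q * z * q⁻¹) * b⁻¹ := by rw [conj_q_z p hq]
      _ = b * q * z * (b * q)⁻¹ := by group
      _ = z := hwz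
  · exfalso
    apply p.ne
    rw [← conj_qb p hq h1 hb h2]
    calc q * b * z * (q * b)⁻¹ = q * b * (q * z * q⁻¹) * (q * b)⁻¹ := by rw [conj_q_z p hq]
      _ = q * b * q * z * (q * b * q)⁻¹ := by group
      _ = z := hwz

/-- `X ∩ C_G(V) = R` -/
theorem X_inf_cV (p : Pair Q z A a) : (Q ⊔ A) ⊓
    Subgroup.centralizer ((Subgroup.closure ({z, a} : Set G) : Subgroup G) : Set G) = RR Q A z a := by
  apply le_antisymm
  · rintro x ⟨hx, hxV⟩
    obtain ⟨h1, h2⟩ := mem_cV.1 hxV
    exact mem_R_of_mem_X p hx h1 h2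
  · intro x hx
    exact ⟨R_le_X Q A z a hx, mem_cV.2 (RR_le_cV p hx)⟩

end Cfsg.Agent.H823
end
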